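import Mathlib
import Cfsg.Agent.Lib.FGStruct.ClassNumber
import Cfsg.Agent.S3681

/-!
# A permutation group of degree `d` has at most `5 ^ (d - 1)` conjugacy classes

In the primitive case a base `T` with `|T| ≤ d / 2` exists (Bochert's argument) and
`k(G) ≤ [G : G_T] k(G_T) ≤ 2 ^ d · 5 ^ (|T| - 1)`, so no bound on the order of `G` is needed.
-/

set_option autoImplicit false

open Equiv MulAction
open scoped Pointwise

namespace CfsgLib.ClassBound

universe u

theorem classes_le_of_surjective {H K : Type*} [Group H] [Finite H] [Group K] (f : H →* K)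
    (hf : Function.Surjective f) : Nat.card (ConjClasses K) ≤ Nat.card (ConjClasses H) :=
  Nat.card_le_card_of_surjective _ (ConjClasses.map_surjective (f := f) hf)

theorem classes_le_card (H : Type*) [Group H] [Finite H] :
    Nat.card (ConjClasses H) ≤ Nat.card H :=
  Nat.card_le_card_of_surjective _ ConjClasses.mk_surjective

/-- Two jointly faithful homomorphisms bound the class number. -/
theorem classes_le_of_two_homs {H K L : Type*} [Group H] [Finite H] [Group K] [Group L]
    (φ : H →* K) (ψ : H →* L) (hinj : ∀ h, φ h = 1 → ψ h = 1 → h = 1) :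
    Nat.card (ConjClasses H) ≤
      Nat.card (ConjClasses ↥(ψ.comp φ.ker.subtype).range) * Nat.card (ConjClasses ↥φ.range) := by
  classical
  haveI := Fintype.ofFinite H
  refine (CfsgLib.FGStruct.classNumber_le_normal_mul_quotient φ.ker).trans ?_
  have hi : Function.Injective (ψ.comp φ.ker.subtype) := by
    refine (injective_iff_map_eq_one _).2 fun x hx => Subtype.ext ?_
    exact hinj _ (MonoidHom.mem_ker.1 x.2) hx
  refine Nat.mul_le_mul ?_ ?_
  · exact classes_le_of_surjective (MonoidHom.ofInjective hi).symm.toMonoidHom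
      (MonoidHom.ofInjective hi).symm.surjective
  · exact classes_le_of_surjective (QuotientGroup.quotientKerEquivRange φ).symm.toMonoidHom
      (QuotientGroup.quotientKerEquivRange φ).symm.surjective

/-- The action on an invariant subset. -/
def restrictHom {α : Type u} (G : Subgroup (Perm α)) (p : α → Prop)
    (hp : ∀ g ∈ G, ∀ a, p (g a) ↔ p a) : G →* Perm {a // p a} where
  toFun g := (g : Perm α).subtypePerm fun a => hp g g.2 a
  map_one' := by ext a; simp [Perm.subtypePerm]
  map_mul' g h := by ext a; simp [Perm.subtypePerm]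

theorem restrictHom_eq_one {α : Type u} {G : Subgroup (Perm α)} {p : α → Prop}
    {hp : ∀ g ∈ G, ∀ a, p (g a) ↔ p a} {g : G} (h : restrictHom G p hp g = 1) {a : α} (ha : p a) :
    (g : Perm α) a = a := by
  simpa [restrictHom] using congrArg (fun s : Perm {a // p a} => (s ⟨a, ha⟩ : α)) h

theorem card_perm_classes_le (α : Type u) [Fintype α] [DecidableEq α] :
    Nat.card (ConjClasses (Perm α)) ≤ 2 ^ (Fintype.card α - 1) := by
  classical
  have h1 : Nat.card (ConjClasses (Perm α)) ≤ Nat.card (Fintype.card α).Partition := by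
    refine Nat.card_le_card_of_injective (Quotient.lift (fun σ : Perm α => σ.partition)
      fun a b h => Perm.partition_eq_of_isConj.1 h) ?_
    intro a b
    induction a using Quotient.inductionOn with
    | h a =>
      induction b using Quotient.inductionOn with
      | h b => exact fun h => Quotient.sound (Perm.partition_eq_of_isConj.2 h)
  refine h1.trans ?_
  rw [← composition_card, ← Nat.card_eq_fintype_card (α := Composition (Fintype.card α))]
  exact Nat.card_le_card_of_surjective _ Nat.Partition.ofComposition_surj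

theorem two_pow_mul_five_le {d : ℕ} (hd : 2 ≤ d) : 2 ^ d * 5 ≤ 5 ^ d := by
  induction d, hd using Nat.le_induction with
  | base => norm_num
  | succ m _ ih => rw [pow_succ, pow_succ]; omega

/-- Bochert: a primitive group not containing the alternating group has a base of at most half
of the points. -/
theorem exists_small_base {α : Type u} [Fintype α] [DecidableEq α] (G : Subgroup (Perm α))
    (hprim : IsPreprimitive G α) (hA : ¬ alternatingGroup α ≤ G) :
    ∃ T : Finset α, 2 * T.card ≤ Fintype.card α ∧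
      ∀ g ∈ G, (∀ x ∈ T, g x = x) → g = 1 := by
  classical
  have hex : ∃ m, ∃ T : Finset α, T.card = m ∧ ∀ g ∈ G, (∀ x ∈ T, g x = x) → g = 1 :=
    ⟨_, Finset.univ, rfl, fun g _ hg => Equiv.ext fun x => hg x (Finset.mem_univ x)⟩
  obtain ⟨T, hTm, hT⟩ := Nat.find_spec hex
  have hmin : ∀ D : Finset α, (∀ g ∈ G, (∀ x ∈ D, g x = x) → g = 1) → T.card ≤ D.card :=
    fun D hD => hTm ▸ Nat.find_min' hex ⟨D, rfl, hD⟩
  have hcomp : ∀ g ∈ G, (∀ x ∈ Tᶜ, g x = x) → g = 1 := by
    intro h hhG hh
    by_contra hne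
    obtain ⟨c, hc⟩ : ∃ c : α, h c ≠ c := by
      by_contra hcon
      push Not at hcon
      exact hne (Equiv.ext hcon)
    have hcT : c ∈ T := by
      by_contra hn
      exact hc (hh c (Finset.mem_compl.2 hn))
    obtain ⟨g, hgG, hg, hg1⟩ : ∃ g ∈ G, (∀ x ∈ T.erase c, g x = x) ∧ g ≠ 1 := by
      by_contra hcon
      push Not at hcon
      have := hmin _ hcon
      rw [Finset.card_erase_of_mem hcT] at this
      have := Finset.card_pos.2 ⟨c, hcT⟩
      omega
    have hgc : g c ≠ c := fun e => hg1 (hT g hgG fun x hx => by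
      by_cases hxc : x = c
      · rw [hxc, e]
      · exact hg x (Finset.mem_erase.2 ⟨hxc, hx⟩))
    have h3 : (h * g * h⁻¹ * g⁻¹).IsThreeCycle := by
      refine Cfsg.Agent.S3681.commutator_isThreeCycle h g c (fun x hx1 hx2 => ?_) hc hgc
      by_contra hxc
      have hxT : x ∈ T := by
        by_contra hn
        exact hx1 (hh x (Finset.mem_compl.2 hn))
      exact hx2 (hg x (Finset.mem_erase.2 ⟨hxc, hxT⟩))
    exact hA (Equiv.Perm.alternatingGroup_le_of_isPreprimitive_of_isThreeCycle_mem hprim h3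
      (G.mul_mem (G.mul_mem (G.mul_mem hhG hgG) (G.inv_mem hhG)) (G.inv_mem hgG)))
  refine ⟨T, ?_, hT⟩
  have := hmin _ hcomp
  rw [Finset.card_compl] at this
  have := Finset.card_le_univ T
  omega

/-- A group with an invariant map onto `c` parts has at most `5 ^ (d - c)` classes. -/
def Holds (d : ℕ) : Prop :=
  ∀ (α : Type u) [Finite α] (G : Subgroup (Perm α)) (β : Type u) [Finite β] (f : α → β),
    Nat.card α = d → Function.Surjective f → (∀ g ∈ G, ∀ a, f (g a) = f a) →
    Nat.card (ConjClasses G) * 5 ^ Nat.card β ≤ 5 ^ d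

theorem holds_of_nontrivial {d : ℕ} (ih : ∀ m < d, Holds.{u} m) (α : Type u) [Finite α]
    (G : Subgroup (Perm α)) (β : Type u) [Finite β] [Nontrivial β] (f : α → β)
    (hd : Nat.card α = d) (hf : Function.Surjective f) (hinv : ∀ g ∈ G, ∀ a, f (g a) = f a) :
    Nat.card (ConjClasses G) * 5 ^ Nat.card β ≤ 5 ^ d := by
  classical
  obtain ⟨b0, b1, hb⟩ := exists_pair_ne β
  let p : α → Prop := fun a => f a = b0
  have hp : ∀ g ∈ G, ∀ a, p (g a) ↔ p a := fun g hg a => by simp only [p, hinv g hg a]
  have hq : ∀ g ∈ G, ∀ a, ¬ p (g a) ↔ ¬ p a := fun g hg a => not_congr (hp g hg a)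
  let φ := restrictHom G p hp
  let ψ := restrictHom G (fun a => ¬ p a) hq
  have hk := classes_le_of_two_homs φ ψ fun g h1 h2 => Subtype.ext (Equiv.ext fun a => by
    by_cases ha : p a
    · exact restrictHom_eq_one h1 ha
    · exact restrictHom_eq_one h2 ha)
  have hsum : Nat.card {a // p a} + Nat.card {a // ¬ p a} = d := by
    rw [← Nat.card_sum, Nat.card_congr (Equiv.sumCompl p), hd]
  obtain ⟨a0, ha0⟩ := hf b0
  obtain ⟨a1, ha1⟩ := hf b1
  haveI : Nonempty {a // p a} := ⟨⟨a0, ha0⟩⟩
  haveI : Nonempty {a // ¬ p a} := ⟨⟨a1, fun h => hb (h.symm.trans ha1)⟩⟩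
  have h0 : 0 < Nat.card {a // p a} := Nat.card_pos
  have h1 : 0 < Nat.card {a // ¬ p a} := Nat.card_pos
  have hR := ih _ (by omega) {a // p a} φ.range PUnit.{u+1} (fun _ => PUnit.unit) rfl
    (fun _ => ⟨⟨a0, ha0⟩, rfl⟩) (fun _ _ _ => rfl)
  rw [show Nat.card PUnit.{u+1} = 1 from Nat.card_unique, pow_one] at hR
  have hL := ih _ (by omega) {a // ¬ p a} (ψ.comp φ.ker.subtype).range {b : β // b ≠ b0}
    (fun a => ⟨f a, a.2⟩) rfl
    (fun b => by
      obtain ⟨a, ha⟩ := hf b
      exact ⟨⟨a, fun h => b.2 (ha.symm.trans h)⟩, Subtype.ext ha⟩)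
    (by
      rintro _ ⟨g, rfl⟩ a
      exact Subtype.ext (hinv _ (g : G).2 a))
  have hβ : Nat.card {b : β // b ≠ b0} + 1 = Nat.card β := by
    rw [← Nat.card_congr (Equiv.optionSubtypeNe b0), Finite.card_option]
  calc Nat.card (ConjClasses G) * 5 ^ Nat.card β
      ≤ (Nat.card (ConjClasses ↥(ψ.comp φ.ker.subtype).range) *
          Nat.card (ConjClasses ↥φ.range)) * 5 ^ Nat.card β := Nat.mul_le_mul_right _ hk
    _ = (Nat.card (ConjClasses ↥φ.range) * 5) *
          (Nat.card (ConjClasses ↥(ψ.comp φ.ker.subtype).range) *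
            5 ^ Nat.card {b : β // b ≠ b0}) := by rw [← hβ, pow_succ]; ring
    _ ≤ 5 ^ Nat.card {a // p a} * 5 ^ Nat.card {a // ¬ p a} := Nat.mul_le_mul hR hL
    _ = 5 ^ d := by rw [← pow_add, hsum]

theorem primitive_bound {d : ℕ} (hd2 : 2 ≤ d) (ih : ∀ m < d, Holds.{u} m) (α : Type u)
    [Fintype α] [DecidableEq α] (G : Subgroup (Perm α)) (hd : Nat.card α = d)
    (hprim : IsPreprimitive G α) : Nat.card (ConjClasses G) * 5 ≤ 5 ^ d := by
  classical
  have hdF : Fintype.card α = d := by rw [← Nat.card_eq_fintype_card, hd]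
  haveI : Nontrivial α := Fintype.one_lt_card_iff_nontrivial.1 (by omega)
  by_cases hA : alternatingGroup α ≤ G
  · have h1 := CfsgLib.FGStruct.classNumber_subgroup_le (X := Perm α) G
    have hi : G.index ≤ 2 := by
      rw [← alternatingGroup.index_eq_two (α := α)]
      exact Subgroup.index_antitone hA
    have h2 := card_perm_classes_le α
    have e : 2 * 2 ^ (Fintype.card α - 1) = 2 ^ d := by
      rw [← pow_succ']
      congr 1
      omega
    calc Nat.card (ConjClasses G) * 5 ≤ 2 * 2 ^ (Fintype.card α - 1) * 5 :=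
          Nat.mul_le_mul_right _ (h1.trans (Nat.mul_le_mul hi h2))
      _ ≤ 5 ^ d := by rw [e]; exact two_pow_mul_five_le hd2
  · obtain ⟨T, hT2, hT⟩ := exists_small_base G hprim hA
    have hTne : T.Nonempty := by
      by_contra hne
      rw [Finset.not_nonempty_iff_eq_empty] at hne
      obtain ⟨a, b, hab⟩ := exists_pair_ne α
      obtain ⟨g, hg⟩ := MulAction.exists_smul_eq G a b
      have h1 : (g : Perm α) = 1 := hT g g.2 (by simp [hne])
      exact hab (by rw [← hg, show g = 1 from Subtype.ext h1, one_smul])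
    set H : Subgroup G := stabilizer G (T : Set α)
    have hmem : ∀ (h : H) (a : α), a ∈ T ↔ ((h : G) : Perm α) a ∈ T := by
      intro h a
      have he : (h : G) • (T : Set α) = T := mem_stabilizer_iff.1 h.2
      constructor
      · intro ha
        have : (h : G) • a ∈ (h : G) • (T : Set α) := Set.smul_mem_smul_set ha
        rw [he] at this
        exact this
      · intro ha
        have : (h : G) • a ∈ (h : G) • (T : Set α) := by rw [he]; exact ha
        exact Set.smul_mem_smul_set_iff.1 this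
    let ψ : H →* Perm {a // a ∈ T} :=
      { toFun := fun h => ((h : G) : Perm α).subtypePerm fun a => (hmem h a).symm
        map_one' := by ext a; simp [Perm.subtypePerm]
        map_mul' := fun g h => by ext a; simp [Perm.subtypePerm] }
    have hψ : Function.Injective ψ := by
      refine (injective_iff_map_eq_one _).2 fun h hh => ?_
      refine Subtype.ext (Subtype.ext (hT _ (h : G).2 fun x hx => ?_))
      simpa [ψ] using congrArg (fun s : Perm {a // a ∈ T} => (s ⟨x, hx⟩ : α)) hh
    have hcT : Nat.card {a // a ∈ T} = T.card := by simp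
    haveI : Nonempty {a // a ∈ T} := ⟨⟨_, hTne.choose_spec⟩⟩
    have hH := ih _ (by omega) {a // a ∈ T} ψ.range PUnit.{u+1} (fun _ => PUnit.unit) rfl
      (fun _ => ⟨Classical.arbitrary _, rfl⟩) (fun _ _ _ => rfl)
    rw [show Nat.card PUnit.{u+1} = 1 from Nat.card_unique, pow_one, hcT] at hH
    have hkH : Nat.card (ConjClasses H) ≤ Nat.card (ConjClasses ψ.range) :=
      classes_le_of_surjective (MonoidHom.ofInjective hψ).symm.toMonoidHom
        (MonoidHom.ofInjective hψ).symm.surjective
    have hidx : H.index ≤ 2 ^ d := by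
      rw [MulAction.index_stabilizer]
      exact (Set.ncard_le_card _).trans_eq (by simp [hdF])
    haveI := Fintype.ofFinite G
    calc Nat.card (ConjClasses G) * 5
        ≤ H.index * Nat.card (ConjClasses H) * 5 :=
          Nat.mul_le_mul_right _ (CfsgLib.FGStruct.classNumber_le_index_mul H).1
      _ ≤ 2 ^ d * 5 ^ T.card := by
          rw [mul_assoc]
          exact Nat.mul_le_mul hidx ((Nat.mul_le_mul_right _ hkH).trans hH)
      _ ≤ 4 ^ (d - T.card) * 5 ^ T.card := by
          refine Nat.mul_le_mul_right _ ?_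
          rw [show (4 : ℕ) = 2 ^ 2 from rfl, ← pow_mul]
          exact Nat.pow_le_pow_right (by norm_num) (by omega)
      _ ≤ 5 ^ (d - T.card) * 5 ^ T.card :=
          Nat.mul_le_mul_right _ (Nat.pow_le_pow_left (by norm_num) _)
      _ = 5 ^ d := by rw [← pow_add]; congr 1; omega

theorem transitive_bound {d : ℕ} (hd2 : 2 ≤ d) (ih : ∀ m < d, Holds.{u} m) (α : Type u)
    [Fintype α] [DecidableEq α] (G : Subgroup (Perm α)) (hd : Nat.card α = d)
    [IsPretransitive G α] : Nat.card (ConjClasses G) * 5 ≤ 5 ^ d := by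
  classical
  by_cases hprim : IsPreprimitive G α
  · exact primitive_bound hd2 ih α G hd hprim
  obtain ⟨B, hB, hBnt⟩ : ∃ B : Set α, IsBlock G B ∧ ¬ IsTrivialBlock B := by
    by_contra hcon
    push Not at hcon
    exact hprim ⟨fun {B} hB => hcon B hB⟩
  have hBs : B.Nontrivial := Set.not_subsingleton_iff.1 fun h => hBnt (Or.inl h)
  have hBu : B ≠ Set.univ := fun h => hBnt (Or.inr h)
  obtain ⟨x, hx, y, hy, hxy⟩ := hBs
  let Y : Type u := ↥(orbit G B)
  have hex : ∀ a : α, ∃ Z : Y, a ∈ (Z : Set α) := fun a => by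
    obtain ⟨g, rfl⟩ := MulAction.exists_smul_eq G x a
    exact ⟨⟨g • B, mem_orbit B g⟩, Set.smul_mem_smul_set hx⟩
  have huniq : ∀ (a : α) (Z W : Y), a ∈ (Z : Set α) → a ∈ (W : Set α) → Z = W := by
    rintro a ⟨_, g, rfl⟩ ⟨_, h, rfl⟩ h1 h2
    apply Subtype.ext
    by_contra hne
    exact Set.disjoint_left.1 (hB hne) h1 h2
  choose f hf using hex
  have hsurj : Function.Surjective f := by
    rintro ⟨_, g, rfl⟩
    exact ⟨g • x, huniq _ _ _ (hf _) (Set.smul_mem_smul_set hx)⟩
  have hYlt : Nat.card Y < d := by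
    rw [← hd, Nat.card_eq_fintype_card, Nat.card_eq_fintype_card]
    refine Fintype.card_lt_of_surjective_not_injective f hsurj fun hinj => hxy (hinj ?_)
    exact (huniq x _ ⟨B, mem_orbit_self B⟩ (hf x) hx).trans
      (huniq y _ ⟨B, mem_orbit_self B⟩ (hf y) hy).symm
  haveI : Nontrivial Y := by
    obtain ⟨z, hz⟩ := (Set.ne_univ_iff_exists_notMem B).1 hBu
    refine ⟨⟨f z, ⟨B, mem_orbit_self B⟩, fun h => hz ?_⟩⟩
    simpa [h] using hf z
  let φ : G →* Perm Y := MulAction.toPermHom G Y
  have hk := classes_le_of_two_homs φ G.subtype fun g _ h2 => Subtype.ext h2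
  have hK := holds_of_nontrivial ih α (G.subtype.comp φ.ker.subtype).range Y f hd hsurj (by
    rintro _ ⟨g, rfl⟩ a
    refine huniq _ _ _ (hf _) ?_
    have hfix : (g : G) • f a = f a := by
      have := DFunLike.congr_fun (MonoidHom.mem_ker.1 g.2) (f a)
      simpa [φ] using this
    have hmem' : (g : G) • a ∈ (((g : G) • f a : Y) : Set α) := Set.smul_mem_smul_set (hf a)
    rw [hfix] at hmem'
    exact hmem')
  have hQ := ih _ hYlt Y φ.range PUnit.{u+1} (fun _ => PUnit.unit) rfl
    (fun _ => ⟨Classical.arbitrary _, rfl⟩) (fun _ _ _ => rfl)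
  rw [show Nat.card PUnit.{u+1} = 1 from Nat.card_unique, pow_one] at hQ
  calc Nat.card (ConjClasses G) * 5
      ≤ Nat.card (ConjClasses ↥(G.subtype.comp φ.ker.subtype).range) *
          (Nat.card (ConjClasses ↥φ.range) * 5) := by
        rw [← mul_assoc]; exact Nat.mul_le_mul_right _ hk
    _ ≤ Nat.card (ConjClasses ↥(G.subtype.comp φ.ker.subtype).range) * 5 ^ Nat.card Y :=
        Nat.mul_le_mul_left _ hQ
    _ ≤ 5 ^ d := hK

theorem holds_all : ∀ d, Holds.{u} d := by
  intro d
  induction d using Nat.strong_induction_on with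
  | _ d ih =>
  intro α _ G β _ f hd hf hinv
  classical
  haveI := Fintype.ofFinite α
  rcases subsingleton_or_nontrivial β with hβ | hβ
  swap
  · exact holds_of_nontrivial ih α G β f hd hf hinv
  rcases Nat.lt_or_ge d 2 with hd2 | hd2
  · haveI : Subsingleton α := Finite.card_le_one_iff_subsingleton.1 (by omega)
    have h1 : Nat.card (ConjClasses G) ≤ 1 :=
      (classes_le_card G).trans (Finite.card_le_one_iff_subsingleton.2
        ⟨fun a b => Subtype.ext (Equiv.ext fun x => Subsingleton.elim _ _)⟩)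
    have h2 : Nat.card β ≤ d := hd ▸ Nat.card_le_card_of_surjective f hf
    calc Nat.card (ConjClasses G) * 5 ^ Nat.card β ≤ 1 * 5 ^ d :=
          Nat.mul_le_mul h1 (Nat.pow_le_pow_right (by norm_num) h2)
      _ = 5 ^ d := one_mul _
  have hc : Nat.card β ≤ 1 := Finite.card_le_one_iff_subsingleton.2 hβ
  have key : Nat.card (ConjClasses G) * 5 ≤ 5 ^ d := by
    by_cases ht : IsPretransitive G α
    · exact transitive_bound hd2 ih α G hd
    obtain ⟨a, b, hab⟩ : ∃ a b : α, ∀ g : G, g • a ≠ b := by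
      by_contra hcon
      push Not at hcon
      exact ht ⟨hcon⟩
    let f' : α → ULift.{u} Bool := fun x => ⟨decide (x ∈ orbit G a)⟩
    have hs : Function.Surjective f' := by
      rintro ⟨_ | _⟩
      · exact ⟨b, by simpa [f', mem_orbit_iff] using fun g hg => hab g hg⟩
      · exact ⟨a, by simp [f']⟩
    have hi : ∀ g ∈ G, ∀ x, f' (g x) = f' x := by
      intro g hg x
      have : (⟨g, hg⟩ : G) • x ∈ orbit G a ↔ x ∈ orbit G a := by
        rw [← orbit_eq_iff, orbit_smul, orbit_eq_iff]
      exact congrArg ULift.up (decide_eq_decide.2 this)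
    have h := holds_of_nontrivial ih α G (ULift.{u} Bool) f' hd hs hi
    calc Nat.card (ConjClasses G) * 5
        ≤ Nat.card (ConjClasses G) * 5 ^ Nat.card (ULift.{u} Bool) :=
          Nat.mul_le_mul_left _ (le_self_pow₀ (by norm_num) Nat.card_pos.ne')
      _ ≤ 5 ^ d := h
  calc Nat.card (ConjClasses G) * 5 ^ Nat.card β
      ≤ Nat.card (ConjClasses G) * 5 ^ 1 :=
        Nat.mul_le_mul_left _ (Nat.pow_le_pow_right (by norm_num) hc)
    _ ≤ 5 ^ d := by rwa [pow_one]

/-- A subgroup of `Sym(α)`, `α` nonempty, has at most `5 ^ (|α| - 1)` classes. -/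
theorem card_classes_le_five_pow (α : Type u) [Finite α] [Nonempty α] (G : Subgroup (Perm α)) :
    Nat.card (ConjClasses G) ≤ 5 ^ (Nat.card α - 1) := by
  have h := holds_all _ α G PUnit.{u+1} (fun _ => PUnit.unit) rfl
    (fun _ => ⟨Classical.arbitrary α, rfl⟩) (fun _ _ _ => rfl)
  rw [show Nat.card PUnit.{u+1} = 1 from Nat.card_unique, pow_one] at h
  have e : 5 ^ Nat.card α = 5 ^ (Nat.card α - 1) * 5 := by
    rw [← pow_succ, Nat.sub_add_cancel (Nat.card_pos : 0 < Nat.card α)]
  rw [e] at h
  exact Nat.le_of_mul_le_mul_right h (by norm_num)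

end CfsgLib.ClassBound
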